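import Groth.Prelude.Def_LefX
import Groth.Prelude.Def_FEt
import Groth.Prelude.Def_W4bk5brsh7111920
import Groth.Agent.LocCohSweep.HLVTConn
import Groth.Agent.LocCohSweep.ConnDim
import Groth.Agent.Gor.Basic
import Mathlib.RingTheory.Spectrum.Prime.Topology

/-!
# Topology of the punctured spectrum of a local ring

Closed subsets and their dimensions, irreducible components, and connectedness in dimension `≥ k`
in terms of the connectedness dimension of the spectrum.
-/

set_option autoImplicit false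

universe u

open PrimeSpectrum TopologicalSpace

noncomputable section

namespace Groth.Agent.PunctTop

/-- The dimension of a sober space is the Krull dimension of the specialisation order. -/
theorem topologicalKrullDim_eq_krullDim {T : Type u} [TopologicalSpace T] [QuasiSober T] [T0Space T]
    {α : Type u} [Preorder α] (e : α ≃ T) (he : ∀ a b, e a ⤳ e b ↔ a ≤ b) :
    topologicalKrullDim T = Order.krullDim α := by
  let f : α ≃o (IrreducibleCloseds T)ᵒᵈ :=
    { toEquiv := e.trans (irreducibleSetEquivPoints.toEquiv.symm.trans OrderDual.toDual)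
      map_rel_iff' := fun {a b} => by
        refine Iff.trans ?_ (he a b)
        show irreducibleSetEquivPoints.toEquiv.symm (e b) ≤ irreducibleSetEquivPoints.toEquiv.symm (e a) ↔ _
        rw [← SetLike.coe_subset_coe, specializes_iff_closure_subset]
        exact Iff.rfl }
  exact Order.krullDim_orderDual.symm.trans (Order.krullDim_eq_of_orderIso f).symm

variable (R : Type u) [CommRing R] [IsLocalRing R]

/-- The punctured spectrum as a set of primes. -/
abbrev P : Set (PrimeSpectrum R) := {IsLocalRing.closedPoint R}ᶜ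

theorem mem_P {x : PrimeSpectrum R} : x ∈ P R ↔ x.asIdeal ≠ IsLocalRing.maximalIdeal R :=
  ⟨fun h e => h (PrimeSpectrum.ext e), fun h e => h (congrArg PrimeSpectrum.asIdeal e)⟩

/-- The closed subset of the punctured spectrum cut out by an ideal. -/
abbrev W (I : Ideal R) : Set ↥(P R) := Subtype.val ⁻¹' zeroLocus (I : Set R)

theorem isClosed_W (I : Ideal R) : IsClosed (W R I) :=
  (PrimeSpectrum.isClosed_zeroLocus _).preimage continuous_subtype_val

theorem isOpen_P : IsOpen (P R) := (IsLocalRing.isClosed_singleton_closedPoint (R := R)).isOpen_compl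

theorem exists_W_eq {Z : Set ↥(P R)} (hZ : IsClosed Z) :
    ∃ I : Ideal R, I ≤ IsLocalRing.maximalIdeal R ∧ Z = W R I := by
  obtain ⟨C, hC, rfl⟩ := isClosed_induced_iff.mp hZ
  obtain ⟨I, rfl⟩ := (PrimeSpectrum.isClosed_iff_zeroLocus_ideal C).mp hC
  refine ⟨I ⊓ IsLocalRing.maximalIdeal R, inf_le_right, Set.ext fun x => ?_⟩
  show I ≤ x.1.asIdeal ↔ I ⊓ IsLocalRing.maximalIdeal R ≤ x.1.asIdeal
  refine ⟨fun h => inf_le_left.trans h, fun h => ?_⟩
  rcases x.1.2.inf_le.mp h with h | h
  · exact h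
  · exact absurd (((IsLocalRing.maximalIdeal.isMaximal R).eq_of_le x.1.2.ne_top h).symm) ((mem_P R).mp x.2)

theorem top_mem {I : Ideal R} (hI : I ≤ IsLocalRing.maximalIdeal R) :
    IsLocalRing.closedPoint R ∈ zeroLocus (I : Set R) := hI

/-- `dim W(I) + 1 = dim R/I`. -/
theorem dim_W_add_one {I : Ideal R} (hI : I ≤ IsLocalRing.maximalIdeal R) (hne : (W R I).Nonempty) :
    topologicalKrullDim ↥(W R I) + 1 = ringKrullDim (R ⧸ I) := by
  classical
  have : QuasiSober ↥(P R) := (isOpen_P R).isOpenEmbedding_subtypeVal.quasiSober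
  have : QuasiSober ↥(W R I) := (isClosed_W R I).isClosedEmbedding_subtypeVal.quasiSober
  let α : Type u := {x : ↥(zeroLocus (I : Set R)) // x ≠ ⟨IsLocalRing.closedPoint R, top_mem R hI⟩}
  let e : α ≃ ↥(W R I) :=
    { toFun := fun x => ⟨⟨x.1.1, fun h => x.2 (Subtype.ext h)⟩, x.1.2⟩
      invFun := fun y => ⟨⟨y.1.1, y.2⟩, fun h => y.1.2 (congrArg Subtype.val h)⟩
      left_inv := fun _ => rfl
      right_inv := fun _ => rfl }
  have he : ∀ a b, e a ⤳ e b ↔ a ≤ b := fun a b => by
    rw [subtype_specializes_iff, subtype_specializes_iff, ← le_iff_specializes]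
    rfl
  obtain ⟨y, hy⟩ := hne
  have : Nonempty α := ⟨e.symm ⟨y, hy⟩⟩
  have : Order.krullDim (WithTop α) = Order.krullDim ↥(zeroLocus (I : Set R)) := by
    refine Order.krullDim_eq_of_orderIso
      { toEquiv := Equiv.optionSubtypeNe (⟨IsLocalRing.closedPoint R, top_mem R hI⟩ : ↥(zeroLocus (I : Set R)))
        map_rel_iff' := ?_ }
    intro a b
    induction a using WithTop.recTopCoe with
    | top =>
      induction b using WithTop.recTopCoe with
      | top => exact iff_of_true le_rfl le_rfl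
      | coe b =>
        refine iff_of_false (fun h => ?_) (WithTop.not_top_le_coe b)
        exact b.2 (Subtype.ext (le_antisymm (IsLocalRing.le_maximalIdeal b.1.1.2.ne_top) h))
    | coe a =>
      induction b using WithTop.recTopCoe with
      | top => exact iff_of_true (IsLocalRing.le_maximalIdeal a.1.1.2.ne_top) le_top
      | coe b => exact Iff.trans (Iff.refl (a ≤ b)) (WithTop.coe_le_coe (α := α) (a := b) (b := a)).symm
  rw [Order.krullDim_WithTop] at this
  rw [topologicalKrullDim_eq_krullDim e he, this, ringKrullDim_quotient]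

variable [IsNoetherianRing R]

theorem exists_dim_W {I : Ideal R} (hI : I ≤ IsLocalRing.maximalIdeal R) :
    (W R I = ∅ ∧ topologicalKrullDim ↥(W R I) = ⊥ ∧ ringKrullDim (R ⧸ I) = 0) ∨
      ∃ d : ℕ, topologicalKrullDim ↥(W R I) = d ∧ ringKrullDim (R ⧸ I) = ((d + 1 : ℕ) : WithBot ℕ∞) := by
  rcases (W R I).eq_empty_or_nonempty with he | hne
  · left
    refine ⟨he, ?_, ?_⟩
    · have : IsEmpty ↥(W R I) := Set.isEmpty_coe_sort.mpr he
      exact Order.krullDim_eq_bot_iff.mpr ⟨fun s => s.2.1.ne_empty (Set.eq_empty_of_isEmpty _)⟩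
    · rw [ringKrullDim_quotient]
      have : Subsingleton ↥(zeroLocus (I : Set R)) := ⟨fun a b => by
        have h : ∀ c : ↥(zeroLocus (I : Set R)), c.1 = IsLocalRing.closedPoint R := fun c => by
          by_contra hc
          exact Set.notMem_empty (⟨c.1, hc⟩ : ↥(P R)) (he ▸ c.2)
        exact Subtype.ext ((h a).trans (h b).symm)⟩
      have : Nonempty ↥(zeroLocus (I : Set R)) := ⟨⟨_, top_mem R hI⟩⟩
      exact Order.krullDim_eq_zero
  · right
    have h := dim_W_add_one R hI hne
    obtain ⟨n, hn⟩ := LocCohSweep.HLVTConn.exists_dim_eq (R := R) (ne_top_of_le_ne_top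
      (IsLocalRing.maximalIdeal.isMaximal R).ne_top hI)
    rw [hn] at h
    have hne' : Nonempty ↥(W R I) := hne.to_subtype
    have h0 : (0 : WithBot ℕ∞) ≤ topologicalKrullDim ↥(W R I) :=
      @Order.krullDim_nonneg _ _ ⟨⟨irreducibleComponent (Classical.arbitrary _),
        isIrreducible_irreducibleComponent, isClosed_irreducibleComponent⟩⟩
    generalize topologicalKrullDim ↥(W R I) = d at h h0 ⊢
    induction d with
    | bot => simp at h0
    | coe d =>
      induction d with
      | top => exact absurd h (fun h => by norm_cast at h)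
      | coe d => exact ⟨d, rfl, hn.trans (by rw [← h]; norm_cast)⟩

theorem dim_W_lt_iff {I : Ideal R} (hI : I ≤ IsLocalRing.maximalIdeal R) (k : ℕ) :
    topologicalKrullDim ↥(W R I) < (k : WithBot ℕ∞) ↔ ringKrullDim (R ⧸ I) < ((k + 1 : ℕ) : WithBot ℕ∞) := by
  rcases exists_dim_W R hI with ⟨-, h1, h2⟩ | ⟨d, h1, h2⟩ <;> rw [h1, h2]
  · exact iff_of_true (WithBot.bot_lt_coe _) (by exact_mod_cast Nat.succ_pos k)
  · norm_cast; omega

theorem connectedInDim_iff (k : ℕ) :
    LefX.ConnectedInDim ↥(P R) k ↔ ((k + 1 : ℕ) : WithBot ℕ∞) ≤ LocCoh.connDim (PrimeSpectrum R) := by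
  constructor
  · intro h
    refine le_iInf₂ fun Z ⟨hZ, hconn⟩ => not_lt.mp fun hlt => hconn ?_
    obtain ⟨I, rfl⟩ := (PrimeSpectrum.isClosed_iff_zeroLocus_ideal Z).mp hZ
    by_cases hI : I ≤ IsLocalRing.maximalIdeal R
    · rw [LocCohSweep.HLVTConn.dim_zeroLocus] at hlt
      have hc := (h (W R I) (isClosed_W R I) ((dim_W_lt_iff R hI k).mpr hlt)).image _
        continuous_subtype_val.continuousOn
      convert hc using 1
      ext x
      refine ⟨fun hx => ⟨⟨x, fun e => hx (e.symm ▸ top_mem R hI)⟩, hx, rfl⟩, ?_⟩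
      rintro ⟨y, hy, rfl⟩
      exact hy
    · have : I = ⊤ := by_contra fun h' => hI (IsLocalRing.le_maximalIdeal h')
      subst this
      rw [Submodule.top_coe, PrimeSpectrum.zeroLocus_univ, Set.compl_empty]
      refine ⟨⟨IsLocalRing.closedPoint R, trivial⟩, fun u v hu hv huv _ _ => ?_⟩
      have hsp : ∀ (O : Set (PrimeSpectrum R)), IsOpen O → IsLocalRing.closedPoint R ∈ O → O = Set.univ :=
        fun O hO hm => Set.eq_univ_of_forall fun x =>
          ((le_iff_specializes x _).mp (IsLocalRing.le_maximalIdeal x.2.ne_top)).mem_open hO hm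
      rcases huv (Set.mem_univ (IsLocalRing.closedPoint R)) with h | h
      · rw [hsp u hu h, Set.univ_inter]; rename_i _ hvne; obtain ⟨x, -, hx⟩ := hvne; exact ⟨x, trivial, hx⟩
      · rw [hsp v hv h, Set.inter_univ]; rename_i hune _; obtain ⟨x, -, hx⟩ := hune; exact ⟨x, trivial, hx⟩
  · intro h Z hZ hlt
    obtain ⟨I, hI, rfl⟩ := exists_W_eq R hZ
    have hlt' := (dim_W_lt_iff R hI k).mp hlt
    rw [← LocCohSweep.HLVTConn.dim_zeroLocus] at hlt'
    have hc : _root_.IsConnected (zeroLocus (I : Set R))ᶜ := by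
      by_contra hc
      exact (not_le.mpr hlt') (h.trans (iInf₂_le
        (f := fun (Z : Set (PrimeSpectrum R)) (_ : IsClosed Z ∧ ¬ _root_.IsConnected Zᶜ) => topologicalKrullDim ↥Z)
        _ ⟨PrimeSpectrum.isClosed_zeroLocus _, hc⟩))
    have himg : Subtype.val '' ((W R I)ᶜ) = (zeroLocus (I : Set R))ᶜ := by
      ext x
      refine ⟨?_, fun hx => ⟨⟨x, fun e => hx (e.symm ▸ top_mem R hI)⟩, hx, rfl⟩⟩
      rintro ⟨y, hy, rfl⟩
      exact hy
    rw [← himg] at hc
    exact ⟨Set.image_nonempty.mp hc.nonempty,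
      Topology.IsInducing.subtypeVal.isPreconnected_image.mp hc.isPreconnected⟩

/-- The irreducible components of the punctured spectrum. -/
theorem mem_components_iff (Z : Set ↥(P R)) :
    Z ∈ irreducibleComponents ↥(P R) ↔
      ∃ p ∈ minimalPrimes R, p ≠ IsLocalRing.maximalIdeal R ∧ Z = W R p := by
  have hopen := (isOpen_P R).isOpenEmbedding_subtypeVal
  have hirr : ∀ p ∈ minimalPrimes R, p ≠ IsLocalRing.maximalIdeal R →
      W R p ∈ irreducibleComponents ↥(P R) := fun p hp hpm => by
    have : p.IsPrime := hp.1.1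
    refine preimage_mem_irreducibleComponents ?_ hopen ⟨⟨p, this⟩, show p ≤ p from le_rfl,
      ⟨⟨⟨p, this⟩, (mem_P R).mpr hpm⟩, rfl⟩⟩
    rw [zeroLocus_ideal_mem_irreducibleComponents, this.radical]
    exact hp
  refine ⟨fun hZ => ?_, ?_⟩
  · obtain ⟨z, hz⟩ := hZ.1.nonempty
    obtain ⟨C, hC, hsub⟩ := exists_mem_irreducibleComponents_subset_of_isIrreducible _
      (hZ.1.image Subtype.val continuous_subtype_val.continuousOn)
    rw [← PrimeSpectrum.zeroLocus_minimalPrimes] at hC
    obtain ⟨p, hp, rfl⟩ := hC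
    have hzp : p ≤ z.1.asIdeal := hsub ⟨z, hz, rfl⟩
    have hpm : p ≠ IsLocalRing.maximalIdeal R := fun e =>
      (mem_P R).mp z.2 ((IsLocalRing.maximalIdeal.isMaximal R).eq_of_le z.1.2.ne_top (e ▸ hzp)).symm
    refine ⟨p, hp, hpm, Set.Subset.antisymm (fun x hx => hsub ⟨x, hx, rfl⟩) ?_⟩
    exact hZ.2 (hirr p hp hpm).1 fun x hx => hsub ⟨x, hx, rfl⟩
  · rintro ⟨p, hp, hpm, rfl⟩
    exact hirr p hp hpm

end Groth.Agent.PunctTop
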